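import Cfsg.Agent.Lib.Helper53.KS.KP6
import Cfsg.Agent.Lib.Helper1.KS.A2
import Cfsg.Agent.Lib.Helper8.KS.A4

/-!
K-S 12.3 farm (helper33), piece KP: the facts on `P = ⟨K, T⟩` and the conclusion of S2953.
-/

set_option autoImplicit false
set_option linter.unusedSectionVars false

namespace Cfsg.Agent.Lib.Helper53.KS

open Subgroup
open scoped commutatorElement
open Cfsg.Agent.Lib.Helper22 (conjS mem_conjS conjS_mem conjS_mul conjS_one conjS_eq_of_mem_normalizer)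
open Cfsg.Agent.Lib.Helper48 (ZN MS)
open Cfsg.Agent.Lib.Helper33.KS
open Cfsg.Agent.Lib.Helper1.KS (exists_w pp_idx3 mem_jOvergroups T_le_normalizer)
open Cfsg.Agent.Lib.Helper8.KS (core_bot)

universe u

variable {G : Type u} [Group G] [Finite G] {M T K L : Subgroup G}

theorem P_le_L (h : KD M T K L) : K ⊔ T ≤ L :=
  sup_le (le_sup_left.trans h.hKL) h.hTL.1

theorem pp_of (h : KD M T K L) (hZ : Z0 T ≤ Cfsg.omegaCenterOf T) : PP T (K ⊔ T) := by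
  have hTK := T_le_normalizer h hZ
  obtain ⟨hsyl, h3⟩ := pp_idx3 h hTK
  have h6 := pp_idx6 h hTK hZ
  have hQT : Cfsg.pCoreOf 2 (K ⊔ T) ≤ T :=
    Cfsg.Agent.Lib.Helper47.pCoreOf_le_of_isSylowIn (Cfsg.Agent.Lib.Helper48.isSylowIn_of_two hsyl)
  refine ⟨?_, hsyl, h3, h6, ?_, ?_⟩
  · have hLT : Cfsg.pCoreOf 2 L ≤ T :=
      Cfsg.Agent.Lib.Helper47.pCoreOf_le_of_isSylowIn
        (Cfsg.Agent.Lib.Helper48.isSylowIn_of_two h.hTL)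
    have h1 : Cfsg.pCoreOf 2 L ≤ Cfsg.pCoreOf 2 (K ⊔ T) :=
      Cfsg.Agent.Lib.Helper49.le_pCoreOf (hLT.trans le_sup_right)
        ((P_le_L h).trans (Cfsg.Agent.Lib.Helper49.le_normalizer_pCoreOf 2 L))
        (Cfsg.Agent.Lib.Helper49.pCoreOf_isPGroup 2 L)
    exact ((centralizer_le h1).trans (mem_jOvergroups h).2.2).trans h1
  · intro hcomm
    -- `T` is normal in `P`
    have hn : K ⊔ T ≤ normalizer (T : Set G) := by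
      apply le_normalizer_iff_commutator_le_left.mpr
      exact ((commutator_mono le_sup_right le_rfl).trans hcomm).trans hQT
    have hle : T ≤ Cfsg.pCoreOf 2 (K ⊔ T) :=
      Cfsg.Agent.Lib.Helper49.le_pCoreOf le_sup_right hn h.ms.hT2
    have heq : Cfsg.pCoreOf 2 (K ⊔ T) = T := le_antisymm hQT hle
    rw [heq, h3] at h6
    omega
  · obtain ⟨w, hw, hw1, hwK⟩ := exists_w h.ms.zn h.ms.hT2 h.ms.hT1 h.hK
    intro hbot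
    apply hwK
    rw [mem_centralizer_iff]
    intro k hk
    have h1 : ⁅w, k⁆ ∈ ⁅Cfsg.omegaCenterOf T, K ⊔ T⁆ :=
      commutator_mem_commutator (hZ hw.1) (mem_sup_left hk)
    rw [hbot, mem_bot] at h1
    exact (commutatorElement_eq_one_iff_mul_comm.mp h1).symm

theorem two_comp {M₁ M₂ K₁ K₂ L₁ L₂ : Subgroup G} (h₁ : KD M₁ T K₁ L₁) (h₂ : KD M₂ T K₂ L₂)
    (hne : L₁ ≠ L₂) (hZ : Z0 T ≤ Cfsg.omegaCenterOf T) :
    ∃ K₁ K₂ : Subgroup G, K₁ ≠ K₂ ∧ Cfsg.IsJComponent T K₁ ∧ Cfsg.IsJComponent T K₂ ∧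
      Cfsg.pCoreOf 2 ((K₁ ⊔ T) ⊔ (K₂ ⊔ T)) = ⊥ ∧
      ∀ P ∈ [K₁ ⊔ T, K₂ ⊔ T],
        Subgroup.centralizer (Cfsg.pCoreOf 2 P : Set G) ≤ Cfsg.pCoreOf 2 P ∧ Cfsg.IsSylowTwoIn T P ∧
        (Cfsg.pCoreOf 2 P).relIndex P = 6 ∧ ¬ ⁅P, P⁆ ≤ Cfsg.pCoreOf 2 P ∧ ⁅Cfsg.omegaCenterOf T, P⁆ ≠ ⊥ ∧
        ∃ L : Subgroup G, Cfsg.IsMaximalTwoLocal L ∧ P ≤ L ∧ Cfsg.IsSylowTwoIn T L ∧
          ∀ L' : Subgroup G, Cfsg.IsMaximalTwoLocal L' → P ≤ L' → L' = L := by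
  have key : ∀ {M K L : Subgroup G}, KD M T K L →
      Subgroup.centralizer (Cfsg.pCoreOf 2 (K ⊔ T) : Set G) ≤ Cfsg.pCoreOf 2 (K ⊔ T) ∧
        Cfsg.IsSylowTwoIn T (K ⊔ T) ∧
        (Cfsg.pCoreOf 2 (K ⊔ T)).relIndex (K ⊔ T) = 6 ∧ ¬ ⁅K ⊔ T, K ⊔ T⁆ ≤ Cfsg.pCoreOf 2 (K ⊔ T) ∧
        ⁅Cfsg.omegaCenterOf T, K ⊔ T⁆ ≠ ⊥ ∧
        ∃ L : Subgroup G, Cfsg.IsMaximalTwoLocal L ∧ K ⊔ T ≤ L ∧ Cfsg.IsSylowTwoIn T L ∧
          ∀ L' : Subgroup G, Cfsg.IsMaximalTwoLocal L' → K ⊔ T ≤ L' → L' = L := by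
    intro M K L h
    have hp := pp_of h hZ
    refine ⟨hp.cent, hp.syl, hp.idx6, hp.nab, hp.comm, L, h.hL, P_le_L h, h.hTL, ?_⟩
    intro L' hL' hle
    exact h.uniq L' hL'
      ((sup_le_sup_left (Cfsg.Agent.Lib.Helper48.thompsonSubgroupOf_le' 2 T) K).trans hle)
  refine ⟨K₁, K₂, ?_, h₁.hK, h₂.hK, ?_, ?_⟩
  · rintro rfl
    exact hne (h₂.uniq L₁ h₁.hL h₁.hKL)
  · have hn := Cfsg.Agent.Lib.Helper49.le_normalizer_pCoreOf 2 ((K₁ ⊔ T) ⊔ (K₂ ⊔ T))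
    exact core_bot h₁ h₂ hne _ (Cfsg.Agent.Lib.Helper49.pCoreOf_isPGroup 2 _)
      (le_sup_left.trans hn) (le_sup_right.trans hn)
  · intro P hP
    rw [List.mem_cons, List.mem_singleton] at hP
    rcases hP with rfl | rfl
    · exact key h₁
    · exact key h₂

end Cfsg.Agent.Lib.Helper53.KS
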