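import Cfsg.Agent.Lib.Helper33.KS.KDefs
import Cfsg.Agent.S2943
import Cfsg.Agent.S2946
import Cfsg.Agent.S2947
import Cfsg.Agent.S2949
import Cfsg.Agent.S2950
import Cfsg.Agent.S1225
import Cfsg.Agent.Lib.Helper1.KS.A3
import Cfsg.Agent.Lib.Helper1.KS.A9

/-!
K-S 12.3 farm (helper33), piece KP6: `|P : O_2(P)| = 6` for `P = ⟨K, T⟩`.
-/

set_option autoImplicit false
set_option linter.unusedSectionVars false

namespace Cfsg.Agent.Lib.Helper53.KS

open Subgroup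
open scoped commutatorElement
open Cfsg.Agent.Lib.Helper22 (conjS mem_conjS conjS_mem conjS_mul conjS_one conjS_eq_of_mem_normalizer)
open Cfsg.Agent.Lib.Helper48 (ZN MS)
open Cfsg.Agent.Lib.Helper33.KS
open Cfsg.Agent.Lib.Helper1.KS (exists_w pp_idx3)

universe u

variable {G : Type u} [Group G] [Finite G] {M T K L : Subgroup G}

theorem relIndex_mul_card' {H K : Subgroup G} (h : H ≤ K) :
    H.relIndex K * Nat.card H = Nat.card K := by
  have := relIndex_mul_relIndex ⊥ H K bot_le h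
  rw [relIndex_bot_left, relIndex_bot_left] at this
  rw [mul_comm]; exact this

/-- `(K T) ∩ C(W)` is a `2`-group. -/
theorem isPGroup_inf_cent (hT2 : IsPGroup 2 T) (hK : Cfsg.IsJComponent T K)
    (hTK : T ≤ normalizer (K : Set G)) :
    IsPGroup 2 ((K ⊔ T) ⊓ centralizer (Cfsg.wOf K : Set G) : Subgroup G) := by
  obtain ⟨S, d, h⟩ := Cfsg.Agent.Lib.Helper48.exists_js hT2 hK
  rintro ⟨g, hg⟩
  obtain ⟨hgH, hgC⟩ := mem_inf.mp hg
  obtain ⟨k, hk, j, hj, rfl⟩ := (Cfsg.Agent.Lib.Helper22.mem_sup_of_le_normalizer hTK).mp hgH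
  obtain ⟨m, hm⟩ := hT2 ⟨j, hj⟩
  have hm' : j ^ 2 ^ m = 1 := congrArg Subtype.val hm
  obtain ⟨k', hk', he⟩ := Cfsg.Agent.Lib.Helper48.exists_mul_pow_eq hk (hTK hj) (2 ^ m)
  rw [hm', mul_one] at he
  have hk'P : k' ∈ Cfsg.pCoreOf 2 K := h.K_inf_cent (mem_inf.mpr ⟨hk', he ▸ pow_mem hgC _⟩)
  obtain ⟨m', hm2⟩ := (Cfsg.Agent.Lib.Helper49.pCoreOf_isPGroup 2 K) ⟨k', hk'P⟩
  have hm2' : k' ^ 2 ^ m' = 1 := congrArg Subtype.val hm2
  refine ⟨m + m', Subtype.ext ?_⟩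
  change (k * j) ^ 2 ^ (m + m') = 1
  rw [pow_add, pow_mul, he, hm2']

/-- a `2`-group normalizing the four-group `W` and centralizing `1 ≠ w ∈ W`: index at most 2. -/
theorem card_le_two_mul {T W : Subgroup G} (hW4 : Nat.card W = 4) (hW2 : ∀ x ∈ W, x * x = 1)
    (hTW : T ≤ normalizer (W : Set G)) {w : G} (hw : w ∈ W) (hw1 : w ≠ 1)
    (hwT : w ∈ centralizer (T : Set G)) :
    Nat.card T ≤ 2 * Nat.card (T ⊓ centralizer (W : Set G) : Subgroup G) := by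
  have hord : orderOf w = 2 := orderOf_eq_prime (by rw [pow_two]; exact hW2 w hw) hw1
  have hZc : Nat.card (zpowers w) = 2 := by rw [Nat.card_zpowers, hord]
  have hZW : zpowers w ≤ W := zpowers_le.mpr hw
  have hidx : ((zpowers w).subgroupOf W).index = 2 := by
    have h1 := relIndex_mul_card' hZW
    rw [hZc, hW4] at h1
    change (zpowers w).relIndex W = 2
    omega
  obtain ⟨w₁, hw₁, hw₁Z⟩ : ∃ w₁ ∈ W, w₁ ∉ zpowers w := by
    by_contra hcon
    push Not at hcon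
    have h1 : W ≤ zpowers w := hcon
    have h2 := card_le_of_le h1
    omega
  have hTZ : T ≤ centralizer (zpowers w : Set G) := by
    rw [le_centralizer_iff]
    exact zpowers_le.mpr hwT
  have hcomm : ∀ t ∈ T, ⁅w₁, t⁆ ∈ zpowers w := by
    intro t ht
    have h1 : t * w₁⁻¹ * t⁻¹ ∈ W := (mem_normalizer_iff.mp (hTW ht) _).mp (inv_mem hw₁)
    have h2 : t * w₁⁻¹ * t⁻¹ ∉ zpowers w := by
      intro h3
      apply hw₁Z
      have h4 : t⁻¹ * (t * w₁⁻¹ * t⁻¹) * t = t * w₁⁻¹ * t⁻¹ := by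
        have h5 := mem_centralizer_iff.mp (hTZ ht) _ h3
        calc t⁻¹ * (t * w₁⁻¹ * t⁻¹) * t = t⁻¹ * ((t * w₁⁻¹ * t⁻¹) * t) := by group
          _ = t⁻¹ * (t * (t * w₁⁻¹ * t⁻¹)) := by rw [h5]
          _ = t * w₁⁻¹ * t⁻¹ := by group
      have h6 : t⁻¹ * (t * w₁⁻¹ * t⁻¹) * t = w₁⁻¹ := by group
      rw [h6] at h4
      rw [← h4] at h3
      exact inv_mem_iff.mp h3
    have h3 := mul_mem_iff_of_index_two hidx (a := ⟨w₁, hw₁⟩) (b := ⟨t * w₁⁻¹ * t⁻¹, h1⟩)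
    have h4 : (⟨w₁, hw₁⟩ * ⟨t * w₁⁻¹ * t⁻¹, h1⟩ : W) ∈ (zpowers w).subgroupOf W := by
      rw [h3]
      constructor
      · intro h5
        exact absurd (mem_subgroupOf.mp h5) hw₁Z
      · intro h5
        exact absurd (mem_subgroupOf.mp h5) h2
    have h5 : w₁ * (t * w₁⁻¹ * t⁻¹) ∈ zpowers w := mem_subgroupOf.mp h4
    have h6 : ⁅w₁, t⁆ = w₁ * (t * w₁⁻¹ * t⁻¹) := by
      rw [commutatorElement_def]; group
    rw [h6]; exact h5
  have h1 := Cfsg.Agent.Lib.Helper48.card_le_mul_card_centralizer hcomm hTZ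
  rw [hZc] at h1
  refine h1.trans (Nat.mul_le_mul_left _ (card_le_of_le ?_))
  -- `C_T(w₁) ≤ C_T(W)`
  refine le_inf inf_le_left ?_
  have hY : W ≤ zpowers w ⊔ zpowers w₁ := by
    have hYW : zpowers w ⊔ zpowers w₁ ≤ W := sup_le hZW (zpowers_le.mpr hw₁)
    have h2 : Nat.card (zpowers w ⊔ zpowers w₁ : Subgroup G) ∣ 4 := hW4 ▸ card_dvd_of_le hYW
    have h3 : 2 ∣ Nat.card (zpowers w ⊔ zpowers w₁ : Subgroup G) := hZc ▸ card_dvd_of_le le_sup_left
    have h4 : Nat.card (zpowers w ⊔ zpowers w₁ : Subgroup G) ≠ 2 := by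
      intro h5
      have h6 : zpowers w = zpowers w ⊔ zpowers w₁ :=
        eq_of_le_of_card_ge le_sup_left (by rw [h5, hZc])
      apply hw₁Z
      rw [h6]
      exact mem_sup_right (mem_zpowers _)
    have h5 : Nat.card (zpowers w ⊔ zpowers w₁ : Subgroup G) = 4 := by
      have h6 : Nat.card (zpowers w ⊔ zpowers w₁ : Subgroup G) ≤ 4 := Nat.le_of_dvd (by norm_num) h2
      interval_cases hc : Nat.card (zpowers w ⊔ zpowers w₁ : Subgroup G) <;> simp_all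
    exact (eq_of_le_of_card_ge hYW (by rw [h5, hW4])).ge
  intro t ht
  have ht1 : t ∈ centralizer (zpowers w : Set G) := hTZ ht.1
  have ht2 : t ∈ centralizer (zpowers w₁ : Set G) := by
    have h9 : zpowers w₁ ≤ centralizer ({t} : Set G) := by
      apply zpowers_le.mpr
      rw [mem_centralizer_singleton_iff]
      exact (mem_centralizer_singleton_iff.mp ht.2).symm
    rw [mem_centralizer_iff]
    intro x hx
    exact mem_centralizer_singleton_iff.mp (h9 hx)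
  have h7 : zpowers w ⊔ zpowers w₁ ≤ centralizer (zpowers t : Set G) := by
    refine sup_le ?_ ?_
    · rw [le_centralizer_iff]; exact zpowers_le.mpr ht1
    · rw [le_centralizer_iff]; exact zpowers_le.mpr ht2
  have h8 : zpowers t ≤ centralizer (W : Set G) := le_centralizer_iff.mp (hY.trans h7)
  exact h8 (mem_zpowers t)

theorem pp_idx6 (h : KD M T K L) (hTK : T ≤ normalizer (K : Set G))
    (hZ : Z0 T ≤ Cfsg.omegaCenterOf T) :
    (Cfsg.pCoreOf 2 (K ⊔ T)).relIndex (K ⊔ T) = 6 := by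
  obtain ⟨hsyl, h3⟩ := pp_idx3 h hTK
  have hT2 := h.ms.hT2
  have hQT : Cfsg.pCoreOf 2 (K ⊔ T) ≤ T :=
    Cfsg.Agent.Lib.Helper47.pCoreOf_le_of_isSylowIn (Cfsg.Agent.Lib.Helper48.isSylowIn_of_two hsyl)
  have hPK : K ⊔ T ≤ normalizer (K : Set G) := sup_le le_normalizer hTK
  have hPW : K ⊔ T ≤ normalizer (Cfsg.wOf K : Set G) :=
    hPK.trans (Cfsg.Agent.Lib.Helper48.normalizer_le_normalizer_wOf K)
  -- (i)
  have hne : ¬ T ≤ Cfsg.pCoreOf 2 (K ⊔ T) := by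
    intro hle
    have heq : Cfsg.pCoreOf 2 (K ⊔ T) = T := le_antisymm hQT hle
    have hn : K ⊔ T ≤ normalizer (T : Set G) := by
      have := Cfsg.Agent.Lib.Helper49.le_normalizer_pCoreOf 2 (K ⊔ T)
      rwa [heq] at this
    apply Cfsg.Agent.Lib.Helper48.not_isPGroup_of_isJComponent h.hK
    apply hT2.to_le
    conv_lhs => rw [← h.hK.2.1]
    refine (commutator_mono le_rfl (Cfsg.Agent.Lib.Helper48.thompsonSubgroupOf_le' 2 T)).trans ?_
    rw [commutator_comm]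
    exact le_normalizer_iff_commutator_le_left.mp (le_sup_left.trans hn)
  -- (ii)
  have hC : (K ⊔ T) ⊓ centralizer (Cfsg.wOf K : Set G) ≤ Cfsg.pCoreOf 2 (K ⊔ T) := by
    refine Cfsg.Agent.Lib.Helper49.le_pCoreOf inf_le_left ?_ (isPGroup_inf_cent hT2 h.hK hTK)
    exact Cfsg.Agent.Lib.Helper22.le_normalizer_inf_centralizer le_normalizer hPW
  -- (iii)
  obtain ⟨w, hw, hw1, -⟩ := exists_w h.ms.zn hT2 h.ms.hT1 h.hK
  have hwT : w ∈ centralizer (T : Set G) :=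
    ((Cfsg.Agent.Lib.Helper48.omegaCenterOf_le T) (hZ hw.1)).2
  have hcard := card_le_two_mul h.hK.2.2.2.2.1 h.hK.2.2.2.2.2 (le_sup_right.trans hPW) hw.2 hw1 hwT
  have hCT : T ⊓ centralizer (Cfsg.wOf K : Set G) ≤ Cfsg.pCoreOf 2 (K ⊔ T) :=
    (inf_le_inf_right _ le_sup_right).trans hC
  have h2 : (Cfsg.pCoreOf 2 (K ⊔ T)).relIndex T = 2 := by
    have h4 := relIndex_mul_card' hQT
    have h5 := card_le_of_le hCT
    have h6 : (Cfsg.pCoreOf 2 (K ⊔ T)).relIndex T ≠ 1 := fun h7 => hne (relIndex_eq_one.mp h7)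
    have h7 : (Cfsg.pCoreOf 2 (K ⊔ T)).relIndex T ≠ 0 := (Nat.pos_of_dvd_of_pos (relIndex_dvd_card _ _) Nat.card_pos).ne'
    have h8 : 0 < Nat.card (Cfsg.pCoreOf 2 (K ⊔ T)) := Nat.card_pos
    by_contra h9
    have h10 : 3 ≤ (Cfsg.pCoreOf 2 (K ⊔ T)).relIndex T := by omega
    have h11 : 3 * Nat.card (Cfsg.pCoreOf 2 (K ⊔ T)) ≤ Nat.card T := by
      rw [← h4]; exact Nat.mul_le_mul_right _ h10
    omega
  have := relIndex_mul_relIndex _ _ _ hQT (le_sup_right : T ≤ K ⊔ T)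
  rw [h2, h3] at this
  omega

end Cfsg.Agent.Lib.Helper53.KS
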